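import Mathlib

/-!
# A local ring as a localization of a basic localization
-/

universe u

namespace Groth.Agent.H1EssFP

/-- Localizing at a prime factors through inverting an element outside it. -/
theorem exists_away {B B₁ L : Type u} [CommRing B] [CommRing B₁] [CommRing L] [Algebra B B₁] [Algebra B L] (q : Ideal B)
    [q.IsPrime] [IsLocalization.AtPrime L q] [IsLocalRing L] (g : B) (hg : g ∉ q) [IsLocalization.Away g B₁] :
    ∃ alg : Algebra B₁ L, letI := alg
      IsScalarTower B B₁ L ∧ IsLocalization.AtPrime L ((IsLocalRing.maximalIdeal L).comap (algebraMap B₁ L)) := by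
  have hle : Submonoid.powers g ≤ q.primeCompl := Submonoid.powers_le.2 hg
  letI alg : Algebra B₁ L := IsLocalization.localizationAlgebraOfSubmonoidLe B₁ L (Submonoid.powers g) q.primeCompl hle
  haveI : IsScalarTower B B₁ L :=
    IsLocalization.localization_isScalarTower_of_submonoid_le B₁ L (Submonoid.powers g) q.primeCompl hle
  refine ⟨alg, inferInstance, ?_⟩
  haveI := IsLocalization.isLocalization_of_submonoid_le B₁ L (Submonoid.powers g) q.primeCompl hle
  refine IsLocalization.of_le (q.primeCompl.map (algebraMap B B₁)) _ (fun x hx h => ?_) (fun x hx => ?_)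
  · exact (IsLocalRing.mem_maximalIdeal _).1 h (IsLocalization.map_units L ⟨x, hx⟩)
  · by_contra h
    exact hx ((IsLocalRing.mem_maximalIdeal _).2 h)

/-- Towers compose. -/
theorem tower_left {A B B₁ L : Type u} [CommRing A] [CommRing B] [CommRing B₁] [CommRing L] [Algebra A B] [Algebra A B₁]
    [Algebra A L] [Algebra B B₁] [Algebra B L] [Algebra B₁ L] [IsScalarTower A B B₁] [IsScalarTower A B L]
    [IsScalarTower B B₁ L] : IsScalarTower A B₁ L :=
  IsScalarTower.of_algebraMap_eq fun x => by
    rw [IsScalarTower.algebraMap_apply A B B₁, ← IsScalarTower.algebraMap_apply B B₁ L,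
      ← IsScalarTower.algebraMap_apply A B L]

end Groth.Agent.H1EssFP
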