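import Mathlib

/-!
# Models over a finitely presented algebra of modules over a localization
-/

universe u

namespace Groth.Agent.H1EssFP

/-- A finitely presented module over a localization is the localization of a finitely presented module. -/
theorem exists_model {R S : Type u} [CommRing R] [CommRing S] [Algebra R S] (p : Submonoid R) [IsLocalization p S]
    (M : Type u) [AddCommGroup M] [Module S M] [Module R M] [IsScalarTower R S M] [Module.FinitePresentation S M] :
    ∃ (M₀ : Type u) (_ : AddCommGroup M₀) (_ : Module R M₀) (f : M₀ →ₗ[R] M),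
      Module.FinitePresentation R M₀ ∧ IsLocalizedModule p f := by
  classical
  obtain ⟨n, x, hx⟩ := Module.Finite.exists_fin (R := S) (M := M)
  let π : (Fin n →₀ S) →ₗ[S] M := Finsupp.linearCombination S x
  have hπ : Function.Surjective π := by
    rw [← LinearMap.range_eq_top, Finsupp.range_linearCombination, hx]
  haveI : Module.Finite S (Fin n →₀ S) := Module.Finite.finsupp
  obtain ⟨T, hT⟩ := Module.FinitePresentation.fg_ker π hπ
  let f0 : (Fin n →₀ R) →ₗ[R] (Fin n →₀ S) := Finsupp.mapRange.linearMap (Algebra.linearMap R S)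
  choose w hw using fun z : Fin n →₀ S => IsLocalizedModule.surj p f0 z
  let N₀ : Submodule R (Fin n →₀ R) := Submodule.span R (T.image fun z => (w z).1 : Set (Fin n →₀ R))
  have hN : N₀.localized' S p f0 = LinearMap.ker π := by
    rw [Submodule.localized'_span, ← hT]
    refine le_antisymm (Submodule.span_le.2 ?_) (Submodule.span_le.2 fun z hz => ?_)
    · rintro _ ⟨_, hk, rfl⟩
      obtain ⟨z, hz, rfl⟩ := Finset.mem_image.1 (Finset.mem_coe.1 hk)
      rw [← hw z, Submonoid.smul_def, ← algebraMap_smul S]
      exact Submodule.smul_mem _ _ (Submodule.subset_span hz)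
    · obtain ⟨c, hc⟩ := IsLocalization.map_units S (w z).2
      have h : z = (↑c⁻¹ : S) • f0 (w z).1 := by
        rw [← hw z, Submonoid.smul_def, ← algebraMap_smul S ((w z).2 : R) z, ← hc, smul_smul, Units.inv_mul, one_smul]
      rw [h]
      exact Submodule.smul_mem _ _ (Submodule.subset_span ⟨_, Finset.mem_coe.2 (Finset.mem_image_of_mem _ hz), rfl⟩)
  let e : ((Fin n →₀ S) ⧸ N₀.localized' S p f0) ≃ₗ[R] M :=
    (Submodule.quotEquivOfEq _ _ hN ≪≫ₗ π.quotKerEquivOfSurjective hπ).restrictScalars R
  refine ⟨(Fin n →₀ R) ⧸ N₀, inferInstance, inferInstance, e.toLinearMap ∘ₗ N₀.toLocalizedQuotient' S p f0,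
    Module.finitePresentation_of_surjective N₀.mkQ N₀.mkQ_surjective (by rw [Submodule.ker_mkQ]; exact ⟨_, rfl⟩),
    IsLocalizedModule.of_linearEquiv _ _ _⟩

end Groth.Agent.H1EssFP
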