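import Groth.Agent.H1EssFP.Fibre
import Groth.Agent.H1EssFP.Model
import Groth.Agent.H1EssFP.Away
import Groth.Agent.FlatModel.Open
import Mathlib

/-!
# The fibre criterion over a localization of a finitely presented algebra
-/

universe u

set_option backward.isDefEq.respectTransparency false
set_option backward.isDefEq.respectTransparency.types false
set_option linter.style.haveILetI false
set_option maxHeartbeats 1000000

open TensorProduct

namespace Groth.Agent.H1EssFP

/-- The fibre criterion. -/
theorem flat_descend {R S S₀ B L M : Type u} [CommRing R] [CommRing S] [CommRing S₀] [CommRing B] [CommRing L]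
    [Algebra R S₀] [Algebra S₀ S] [Algebra R S] [IsScalarTower R S₀ S]
    [Algebra R B] [Algebra S₀ B] [IsScalarTower R S₀ B] [Algebra.FinitePresentation R B]
    [Algebra.FinitePresentation S₀ B] [Module.Flat S₀ B]
    [Algebra B L] [Algebra R L] [Algebra S₀ L] [IsScalarTower R B L] [IsScalarTower S₀ B L] [IsLocalRing L]
    (q : Ideal B) [q.IsPrime] [IsLocalization.AtPrime L q] (P : Ideal S) (𝔞 : Ideal R)
    [IsLocalization (q.comap (algebraMap S₀ B)).primeCompl S]
    (hP : (q.comap (algebraMap S₀ B)).map (algebraMap S₀ S) = P) (h𝔞 : 𝔞.map (algebraMap R S) ≤ P)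
    [AddCommGroup M] [Module L M] [Module S M] [Module R M] [IsScalarTower R L M] [IsScalarTower R S M]
    [Module.FinitePresentation L M] [Module.Flat R M]
    (hact : ∀ (x : S₀) (m : M), algebraMap S₀ L x • m = algebraMap S₀ S x • m)
    (hfib : Module.Flat (S ⧸ 𝔞.map (algebraMap R S)) (M ⧸ 𝔞.map (algebraMap R S) • (⊤ : Submodule S M))) :
    Module.Flat S M := by
  letI : Module B M := Module.compHom M (algebraMap B L)
  haveI : IsScalarTower B L M := IsScalarTower.of_algebraMap_smul fun _ _ => rfl
  haveI : IsScalarTower R B M := IsScalarTower.of_algebraMap_smul fun r m => by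
    show algebraMap B L (algebraMap R B r) • m = r • m
    rw [← IsScalarTower.algebraMap_apply R B L, algebraMap_smul]
  obtain ⟨M₀, _, _, fM, hM₀, hfM⟩ := exists_model (S := L) q.primeCompl M
  letI : Module R M₀ := Module.compHom M₀ (algebraMap R B)
  haveI : IsScalarTower R B M₀ := IsScalarTower.of_algebraMap_smul fun _ _ => rfl
  haveI : IsLocalizedModule q.primeCompl fM := hfM
  obtain ⟨g, hg, hW⟩ := FlatModel.exists_flat_nhd (R := R) M₀ q
    (Module.Flat.of_linearEquiv ((IsLocalizedModule.iso q.primeCompl fM).restrictScalars R))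
  let B₁ := Localization.Away g
  haveI : Algebra.FinitePresentation B B₁ := IsLocalization.Away.finitePresentation g
  haveI : Algebra.FinitePresentation R B₁ := Algebra.FinitePresentation.trans R B B₁
  haveI : Algebra.FinitePresentation S₀ B₁ := Algebra.FinitePresentation.trans S₀ B B₁
  haveI : Module.Flat B B₁ := IsLocalization.flat B₁ (Submonoid.powers g)
  haveI : Module.Flat S₀ B₁ := Module.Flat.trans S₀ B B₁
  haveI : Module.Flat R (B₁ ⊗[B] M₀) :=
    haveI := hW (Submonoid.powers g) (Submonoid.mem_powers g)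
    Module.Flat.of_linearEquiv ((LocalizedModule.equivTensorProduct (Submonoid.powers g) M₀).restrictScalars R).symm
  obtain ⟨alg, htow, hloc⟩ := exists_away (B₁ := B₁) (L := L) q g hg
  letI := alg
  haveI := htow
  let q₁ : PrimeSpectrum B₁ := ⟨(IsLocalRing.maximalIdeal L).comap (algebraMap B₁ L), inferInstance⟩
  haveI : IsLocalization.AtPrime L q₁.asIdeal := hloc
  haveI : IsScalarTower S₀ B₁ L := tower_left (B := B)
  haveI : IsScalarTower R B₁ L := tower_left (B := B)
  have hp : q₁.asIdeal.comap (algebraMap S₀ B₁) = q.comap (algebraMap S₀ B) := by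
    have h1 : (IsLocalRing.maximalIdeal L).comap (algebraMap B L) = q :=
      IsLocalization.AtPrime.comap_maximalIdeal L q
    show ((IsLocalRing.maximalIdeal L).comap _).comap _ = _
    rw [Ideal.comap_comap, ← IsScalarTower.algebraMap_eq S₀ B₁ L, IsScalarTower.algebraMap_eq S₀ B L,
      ← Ideal.comap_comap, h1]
  haveI : IsLocalization (q₁.asIdeal.comap (algebraMap S₀ B₁)).primeCompl S := by
    simp only [hp]; infer_instance
  have hunit : ∀ x : (q.comap (algebraMap S₀ B)).primeCompl, IsUnit (algebraMap S₀ L x) := fun x => by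
    rw [IsScalarTower.algebraMap_apply S₀ B L]
    exact IsLocalization.map_units L (⟨algebraMap S₀ B x, x.2⟩ : q.primeCompl)
  letI : Algebra S L :=
    (IsLocalization.lift (M := (q.comap (algebraMap S₀ B)).primeCompl) (g := algebraMap S₀ L) hunit).toAlgebra
  haveI : IsScalarTower S₀ S L := IsScalarTower.of_algebraMap_eq fun x => (IsLocalization.lift_eq hunit x).symm
  haveI : IsScalarTower R S L := IsScalarTower.of_algebraMap_eq fun r => by
    rw [IsScalarTower.algebraMap_apply R S₀ S, ← IsScalarTower.algebraMap_apply S₀ S L,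
      IsScalarTower.algebraMap_apply R B L, IsScalarTower.algebraMap_apply R S₀ B,
      ← IsScalarTower.algebraMap_apply S₀ B L]
  haveI : IsScalarTower S L M := IsScalarTower.of_algebraMap_smul fun y m => by
    obtain ⟨⟨a, s⟩, hs⟩ := IsLocalization.surj (q.comap (algebraMap S₀ B)).primeCompl y
    refine (IsUnit.smul_left_cancel (hunit s)).1 ?_
    rw [← mul_smul, hact s (y • m), ← mul_smul, mul_comm _ y, hs, IsScalarTower.algebraMap_apply S₀ S L,
      ← map_mul, mul_comm _ y, hs, ← IsScalarTower.algebraMap_apply S₀ S L]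
    exact hact a m
  let e : L ⊗[B₁] (B₁ ⊗[B] M₀) ≃ₗ[L] M :=
    (AlgebraTensorModule.cancelBaseChange B B₁ L L M₀).trans
      ((isLocalizedModule_iff_isBaseChange q.primeCompl L fM).1 hfM).equiv
  exact flat_of_fibre (R := R) (S₀ := S₀) (B := B₁) (L := L) q₁ P 𝔞 (by rw [hp]; exact hP) h𝔞 (B₁ ⊗[B] M₀) e hfib

end Groth.Agent.H1EssFP
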