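import Groth.Agent.H1FibInj.General
import Groth.Agent.H1FibInj.Chart
import Groth.Agent.FlatSyz5.Kernel
import Mathlib

/-!
# The fibre criterion for flatness from fibrewise injectivity
-/

universe u

set_option backward.isDefEq.respectTransparency false
set_option backward.isDefEq.respectTransparency.types false
set_option linter.style.haveILetI false
set_option maxHeartbeats 2000000
set_option synthInstance.maxHeartbeats 200000

open TensorProduct

namespace Groth.Agent.H1EssFP

/-- Membership in `I • ⊤` over either ring. -/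
theorem mem_smul_top {R S : Type u} [CommRing R] [CommRing S] [Algebra R S] {X : Type u} [AddCommGroup X] [Module S X]
    [Module R X] [IsScalarTower R S X] (I : Ideal R) (x : X) :
    x ∈ I.map (algebraMap R S) • (⊤ : Submodule S X) ↔ x ∈ I • (⊤ : Submodule R X) := by
  rw [← Submodule.restrictScalars_top R S, ← Ideal.smul_restrictScalars, Submodule.restrictScalars_mem]

/-- Injectivity modulo a small ideal passes to a larger one when the reduced cokernel is flat. -/
theorem mod_mono {S X Y M : Type u} [CommRing S] [AddCommGroup X] [Module S X] [AddCommGroup Y] [Module S Y]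
    [AddCommGroup M] [Module S M] {𝔞 P : Ideal S} (hle : 𝔞 ≤ P) (u : X →ₗ[S] Y) (π : Y →ₗ[S] M)
    (hex : Function.Exact u π) (hπ : Function.Surjective π)
    (hu : ∀ x, u x ∈ 𝔞 • (⊤ : Submodule S Y) → x ∈ 𝔞 • (⊤ : Submodule S X))
    (hfib : Module.Flat (S ⧸ 𝔞) (M ⧸ 𝔞 • (⊤ : Submodule S M))) (x : X) (hx : u x ∈ P • (⊤ : Submodule S Y)) :
    x ∈ P • (⊤ : Submodule S X) := by
  letI : Algebra (S ⧸ 𝔞) (S ⧸ P) := (Ideal.Quotient.factor hle).toAlgebra
  haveI : IsScalarTower S (S ⧸ 𝔞) (S ⧸ P) := IsScalarTower.of_algebraMap_eq fun _ => rfl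
  haveI := hfib
  let e : (S ⧸ 𝔞) ⊗[S] M ≃ₗ[S ⧸ 𝔞] M ⧸ 𝔞 • (⊤ : Submodule S M) :=
    { (TensorProduct.quotTensorEquivQuotSMul M 𝔞) with
      map_smul' := fun c z => by
        obtain ⟨c, rfl⟩ := Ideal.Quotient.mk_surjective c
        show TensorProduct.quotTensorEquivQuotSMul M 𝔞 (algebraMap S (S ⧸ 𝔞) c • z) =
          algebraMap S (S ⧸ 𝔞) c • TensorProduct.quotTensorEquivQuotSMul M 𝔞 z
        rw [algebraMap_smul, algebraMap_smul, map_smul] }
  haveI : Module.Flat (S ⧸ 𝔞) ((S ⧸ 𝔞) ⊗[S] M) := Module.Flat.of_linearEquiv e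
  have hinj : Function.Injective (u.baseChange (S ⧸ 𝔞)) := by
    rw [injective_iff_map_eq_zero]
    intro z hz
    obtain ⟨z, rfl⟩ := S0393.exists_one_tmul 𝔞 z
    rw [S0393.one_tmul_eq_zero_iff]
    refine hu z ?_
    rw [← S0393.one_tmul_eq_zero_iff]
    exact hz
  have hexb : Function.Exact (u.baseChange (S ⧸ 𝔞)) (π.baseChange (S ⧸ 𝔞)) := lTensor_exact (S ⧸ 𝔞) hex hπ
  have h := W4Lib.lTensor_injective_of_flat_quotient hinj hexb
    (LinearMap.lTensor_surjective (S ⧸ 𝔞) hπ) (S ⧸ P)
  rw [H1RectCons.injective_lTensor_cancel] at h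
  rw [← S0393.one_tmul_eq_zero_iff] at hx ⊢
  exact h (by rw [map_zero]; exact hx)

variable {R S S₀ B L M : Type u} [CommRing R] [CommRing S] [CommRing S₀] [CommRing B] [CommRing L]
  [Algebra R S₀] [Algebra R B] [Algebra S₀ B] [IsScalarTower R S₀ B] [Algebra S₀ S] [Algebra R S] [IsScalarTower R S₀ S]
  [Algebra B L] [Algebra S L] [Algebra S₀ L] [Algebra R L] [IsScalarTower S₀ B L] [IsScalarTower S₀ S L]
  [IsScalarTower R B L] [IsScalarTower R S L]
  [AddCommGroup M] [Module L M] [Module S M] [Module R M] [IsScalarTower S L M] [IsScalarTower R L M] [IsScalarTower R S M]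

/-- Flatness from the fibre. -/
theorem flat_of_fibre [Algebra.FinitePresentation R B] [Algebra.FinitePresentation S₀ B] [Module.Flat S₀ B]
    (q : PrimeSpectrum B) [IsLocalization.AtPrime L q.asIdeal] (P : Ideal S) (𝔞 : Ideal R)
    [IsLocalization (q.asIdeal.comap (algebraMap S₀ B)).primeCompl S]
    (hP : (q.asIdeal.comap (algebraMap S₀ B)).map (algebraMap S₀ S) = P) (h𝔞 : 𝔞.map (algebraMap R S) ≤ P)
    (M₁ : Type u) [AddCommGroup M₁] [Module B M₁] [Module R M₁] [IsScalarTower R B M₁] [Module.FinitePresentation B M₁]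
    [Module.Flat R M₁] (e : L ⊗[B] M₁ ≃ₗ[L] M) [Module.Flat R M]
    (hfib : Module.Flat (S ⧸ 𝔞.map (algebraMap R S)) (M ⧸ 𝔞.map (algebraMap R S) • (⊤ : Submodule S M))) :
    Module.Flat S M := by
  obtain ⟨a, π, hπ⟩ := Module.Finite.exists_fin' B M₁
  haveI := FlatSyz5.fp_ker_of_surjective (A := R) π hπ
  let i := (LinearMap.ker π).subtype
  haveI : Module.Flat B L := IsLocalization.flat L q.asIdeal.primeCompl
  let π' : L ⊗[B] (Fin a → B) →ₗ[L] M := e.toLinearMap ∘ₗ π.baseChange L
  let iL := i.baseChange L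
  have hπ' : Function.Surjective π' := e.surjective.comp (LinearMap.lTensor_surjective L hπ)
  have hex' : Function.Exact iL π' :=
    (lTensor_exact L (LinearMap.exact_subtype_ker_map π) hπ).comp_injective e e.injective (map_zero e)
  have hinj : Function.Injective iL := Module.Flat.lTensor_preserves_injective_linearMap i Subtype.val_injective
  haveI : IsScalarTower R L (L ⊗[B] LinearMap.ker π) := inferInstance
  have hR : ∀ x, iL x ∈ 𝔞.map (algebraMap R S) • (⊤ : Submodule S (L ⊗[B] (Fin a → B))) →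
      x ∈ 𝔞.map (algebraMap R S) • (⊤ : Submodule S (L ⊗[B] LinearMap.ker π)) := fun x hx => by
    rw [mem_smul_top] at hx ⊢
    haveI : Module.Flat R ((L ⊗[B] (Fin a → B)) ⧸ LinearMap.range iL) :=
      Module.Flat.of_linearEquiv ((Submodule.quotEquivOfEq _ _ (LinearMap.exact_iff.1 hex').symm ≪≫ₗ
        π'.quotKerEquivOfSurjective hπ').restrictScalars R)
    exact H1FibInj.elementwise_of_flat iL hinj 𝔞 x hx
  haveI : Module.Flat S₀ (L ⊗[B] (Fin a → B)) := by
    haveI : Module.Flat S₀ L := Module.Flat.trans S₀ B L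
    exact Module.Flat.of_linearEquiv ((TensorProduct.piScalarRight B L L (Fin a)).restrictScalars S₀)
  let fK : LinearMap.ker π →ₗ[B] L ⊗[B] LinearMap.ker π := TensorProduct.mk B L _ 1
  let fF : (Fin a → B) →ₗ[B] L ⊗[B] (Fin a → B) := TensorProduct.mk B L _ 1
  haveI : IsLocalizedModule q.asIdeal.primeCompl fK := inferInstance
  haveI : IsLocalizedModule q.asIdeal.primeCompl fF := inferInstance
  have main := H1FibInj.criterion (A := S₀) i q fK fF (iL.restrictScalars B) (LinearMap.ext fun _ => rfl) fun x hx => by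
    rw [← mem_smul_top (S := S), hP] at hx ⊢
    exact mod_mono h𝔞 (iL.restrictScalars S) (π'.restrictScalars S) hex' hπ' hR hfib x hx
  haveI := main.2
  letI : Module S₀ M := Module.compHom M (algebraMap S₀ S)
  haveI : IsScalarTower S₀ S M := IsScalarTower.of_algebraMap_smul fun _ _ => rfl
  haveI : IsScalarTower S₀ L M := IsScalarTower.of_algebraMap_smul fun c m => by
    show algebraMap S₀ L c • m = algebraMap S₀ S c • m
    rw [IsScalarTower.algebraMap_apply S₀ S L, algebraMap_smul]
  let e' : ((L ⊗[B] (Fin a → B)) ⧸ LinearMap.range (iL.restrictScalars B)) ≃ₗ[S₀] M :=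
    ((Submodule.quotEquivOfEq _ _ (LinearMap.range_restrictScalars iL) ≪≫ₗ
      Submodule.Quotient.restrictScalarsEquiv B (LinearMap.range iL)).restrictScalars S₀) ≪≫ₗ
      (Submodule.quotEquivOfEq _ _ (LinearMap.exact_iff.1 hex').symm ≪≫ₗ
        π'.quotKerEquivOfSurjective hπ').restrictScalars S₀
  haveI : Module.Flat S₀ M := Module.Flat.of_linearEquiv e'.symm
  exact (Module.flat_iff_of_isLocalization S (q.asIdeal.comap (algebraMap S₀ B)).primeCompl M).2 inferInstance

end Groth.Agent.H1EssFP
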