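import Mathlib

/-!
# Kernels of surjections onto algebras essentially of finite presentation
-/

universe u

namespace Groth.Agent.H1EssFP

/-- The kernel of a surjective local map from a localization of a finite type algebra onto an algebra
essentially of finite presentation is finitely generated. -/
theorem ker_fg {R B L C S' : Type u} [CommRing R] [CommRing B] [CommRing L] [CommRing C] [CommRing S']
    [Algebra R B] [Algebra.FiniteType R B] [Algebra B L] [Algebra R L] [IsScalarTower R B L]
    (q : Submonoid B) [IsLocalization q L] [Algebra R C] [Algebra.FinitePresentation R C] [Algebra C S'] [Algebra R S']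
    [IsScalarTower R C S'] (P : Submonoid C) [IsLocalization P S']
    (π : L →ₐ[R] S') (hπ : Function.Surjective π) [IsLocalHom (π : L →+* S')] :
    (RingHom.ker (π : L →+* S')).FG := by
  classical
  obtain ⟨n, f, hf, hker⟩ := Algebra.FinitePresentation.out (R := R) (A := C)
  obtain ⟨T, hT⟩ := hker
  choose l hl using fun i : Fin n => hπ (algebraMap C S' (f (MvPolynomial.X i)))
  let σ₀ : MvPolynomial (Fin n) R →ₐ[R] L := MvPolynomial.aeval l
  have hσ₀ : π.comp σ₀ = (IsScalarTower.toAlgHom R C S').comp f :=
    MvPolynomial.algHom_ext fun i => by simp [σ₀, hl]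
  let J : Ideal L := Ideal.span (T.image σ₀ : Set L)
  have hJ : J ≤ RingHom.ker (π : L →+* S') := Ideal.span_le.2 fun z hz => by
    obtain ⟨p, hp, rfl⟩ := Finset.mem_image.1 (Finset.mem_coe.1 hz)
    have h0 : f p = 0 := by
      have : p ∈ RingHom.ker f.toRingHom := hT ▸ Ideal.subset_span hp
      exact this
    show π (σ₀ p) = 0
    rw [← AlgHom.comp_apply, hσ₀, AlgHom.comp_apply, h0, map_zero]
  let mkJ : L →ₐ[R] L ⧸ J := Ideal.Quotient.mkₐ R J
  let π' : L ⧸ J →ₐ[R] S' := Ideal.Quotient.liftₐ J π hJ
  have hπ' : π'.comp mkJ = π := AlgHom.ext fun _ => rfl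
  have hker₀ : RingHom.ker f.toRingHom ≤ RingHom.ker (mkJ.comp σ₀).toRingHom := by
    rw [← hT, Submodule.span_le]
    intro p hp
    exact Ideal.Quotient.eq_zero_iff_mem.2 (Ideal.subset_span (Finset.mem_coe.2 (Finset.mem_image_of_mem σ₀ hp)))
  let τ : C →ₐ[R] L ⧸ J := AlgHom.liftOfSurjective f hf (mkJ.comp σ₀) hker₀
  have hτ : ∀ p, τ (f p) = mkJ (σ₀ p) := fun p => AlgHom.liftOfSurjective_apply f hf (mkJ.comp σ₀) hker₀ p
  have hπτ : ∀ c, π' (τ c) = algebraMap C S' c := fun c => by
    obtain ⟨p, rfl⟩ := hf c
    rw [hτ]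
    exact AlgHom.congr_fun hσ₀ p
  have hunit : ∀ s : P, IsUnit (τ s) := fun s => by
    obtain ⟨z, hz⟩ := Ideal.Quotient.mk_surjective (τ s)
    have hz' : π z = algebraMap C S' s := by rw [← hπτ, ← hz]; rfl
    have hu : IsUnit z := IsUnit.of_map (π : L →+* S') z (by
      show IsUnit (π z)
      rw [hz']
      exact IsLocalization.map_units S' s)
    rw [← hz]
    exact hu.map (Ideal.Quotient.mk J)
  let σ : S' →+* L ⧸ J := IsLocalization.lift (M := P) (g := τ.toRingHom) hunit
  have hσc : ∀ c, σ (algebraMap C S' c) = τ c := fun c => IsLocalization.lift_eq hunit c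
  have hσ : ∀ y, π' (σ y) = y := by
    suffices h : (π'.toRingHom).comp σ = RingHom.id S' from fun y => RingHom.congr_fun h y
    refine IsLocalization.ringHom_ext P (RingHom.ext fun c => ?_)
    show π' (σ (algebraMap C S' c)) = algebraMap C S' c
    rw [hσc, hπτ]
  obtain ⟨s, hs⟩ := Algebra.FiniteType.out (R := R) (A := B)
  let D : B → L := fun b => algebraMap B L b - Function.surjInv Ideal.Quotient.mk_surjective
    (σ (π (algebraMap B L b)))
  let K : Ideal L := J ⊔ Ideal.span (s.image D : Set L)
  have hK : RingHom.ker (π : L →+* S') = K := by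
    refine le_antisymm (fun z hz => ?_) (sup_le hJ (Ideal.span_le.2 fun z hz => ?_))
    · let g₁ : L →+* L ⧸ K := Ideal.Quotient.mk K
      let g₂ : L →+* L ⧸ K := (Ideal.Quotient.factor (le_sup_left : J ≤ K)).comp (σ.comp π.toRingHom)
      have hR : ∀ r : R, g₂ (algebraMap R L r) = g₁ (algebraMap R L r) := fun r => by
        show Ideal.Quotient.factor (le_sup_left : J ≤ K) (σ (π (algebraMap R L r))) = _
        rw [π.commutes, IsScalarTower.algebraMap_apply R C S' r, hσc, τ.commutes]
        rfl
      have hB : ∀ b : B, g₂ (algebraMap B L b) = g₁ (algebraMap B L b) := by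
        intro b
        have hb : b ∈ Algebra.adjoin R (s : Set B) := hs ▸ Algebra.mem_top
        induction hb using Algebra.adjoin_induction with
        | mem b hb =>
          show Ideal.Quotient.factor (le_sup_left : J ≤ K) (σ (π (algebraMap B L b))) = _
          rw [← Function.surjInv_eq Ideal.Quotient.mk_surjective (σ (π (algebraMap B L b))), Ideal.Quotient.factor_mk,
            Ideal.Quotient.eq]
          rw [← neg_sub]
          exact K.neg_mem (le_sup_right (a := J) (Ideal.subset_span (Finset.mem_coe.2 (Finset.mem_image_of_mem D hb))))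
        | algebraMap r => rw [← IsScalarTower.algebraMap_apply R B L r, hR]
        | add a b _ _ ha hb => rw [map_add, map_add, map_add, ha, hb]
        | mul a b _ _ ha hb => rw [map_mul, map_mul, map_mul, ha, hb]
      have h12 : g₂ = g₁ := IsLocalization.ringHom_ext q (RingHom.ext hB)
      rw [← Ideal.Quotient.eq_zero_iff_mem]
      show g₁ z = 0
      rw [← h12]
      show Ideal.Quotient.factor (le_sup_left : J ≤ K) (σ (π z)) = 0
      rw [show π z = 0 from hz, map_zero, map_zero]
    · obtain ⟨b, -, rfl⟩ := Finset.mem_image.1 (Finset.mem_coe.1 hz)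
      show π (_ - _) = 0
      rw [map_sub, sub_eq_zero]
      rw [show π (Function.surjInv Ideal.Quotient.mk_surjective (σ (π (algebraMap B L b)))) =
        π' (σ (π (algebraMap B L b))) from ?_, hσ]
      conv_rhs => rw [← Function.surjInv_eq Ideal.Quotient.mk_surjective (σ (π (algebraMap B L b)))]
      rfl
  rw [hK]
  exact Submodule.FG.sup ⟨T.image σ₀, rfl⟩ ⟨s.image D, rfl⟩

end Groth.Agent.H1EssFP
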